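import Cfsg.Agent.H36.CyZ.Basic
import Cfsg.Agent.H69.M11.Unique
import Cfsg.Agent.Golay.Mathieu
import Cfsg.Agent.Perm.RegularNormal

/-!
# Two-point stabiliser alternating of degree five: the two small degrees
-/

set_option autoImplicit false
set_option linter.unusedSectionVars false
set_option linter.style.haveILetI false

namespace Cfsg.Agent.H66.AFive

open MulAction

variable {G Ω : Type*} [Group G] [MulAction G Ω]

/-- A faithful group of order 2520 on seven points is alternating. -/
theorem iso_alt_seven [Finite G] [FaithfulSMul G Ω] (hΩ : Nat.card Ω = 7) (hG : Nat.card G = 2520) :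
    Nonempty (G ≃* ↥(alternatingGroup (Fin 7))) := by
  classical
  haveI : Finite Ω := Nat.finite_of_card_ne_zero (by omega)
  obtain ⟨e⟩ : Nonempty (Ω ≃ Fin 7) := ⟨Finite.equivFinOfCardEq hΩ⟩
  let φ : G →* Equiv.Perm (Fin 7) := e.permCongrHom.toMonoidHom.comp (toPermHom G Ω)
  have hφ : Function.Injective φ := fun a b k => by
    have : toPermHom G Ω a = toPermHom G Ω b := e.permCongrHom.injective k
    exact MulAction.toPerm_injective this
  have hc : Nat.card φ.range = 2520 := by
    rw [← Nat.card_congr (MonoidHom.ofInjective hφ).toEquiv, hG]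
  have hi : φ.range.index = 2 := by
    have := φ.range.card_mul_index
    rw [hc, Nat.card_perm, Nat.card_fin, show Nat.factorial 7 = 5040 from rfl] at this
    omega
  exact ⟨(MonoidHom.ofInjective hφ).trans
    (MulEquiv.subgroupCongr (Equiv.Perm.eq_alternatingGroup_of_index_eq_two hi))⟩

/-- A group of order 132 has a characteristic subgroup whose order is prime to twelve or too small. -/
theorem card_normal_sylow_two [Finite G] {N : Subgroup G} (hN : Nat.card N = 132) :
    ∃ K : Subgroup N, K.Characteristic ∧ K ≠ ⊥ ∧ ¬ 12 ∣ Nat.card K := by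
  classical
  haveI : Fintype N := Fintype.ofFinite N
  haveI : Fact (Nat.Prime 11) := ⟨by norm_num⟩
  haveI : Fact (Nat.Prime 3) := ⟨by norm_num⟩
  haveI : Fact (Nat.Prime 2) := ⟨Nat.prime_two⟩
  have hchar : ∀ {p : ℕ} [Fact p.Prime] (P : Sylow p N), Nat.card (Sylow p N) = 1 →
      (P : Subgroup N).Characteristic := by
    intro p _ P h1
    haveI := (Nat.card_eq_one_iff_unique.1 h1).1
    exact Sylow.characteristic_of_normal P (Sylow.normal_of_subsingleton P)
  have hcardP : ∀ {p : ℕ} [Fact p.Prime] (P : Sylow p N), Nat.card ↥(P : Subgroup N) = p ^ (132 : ℕ).factorization p :=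
    fun P => by rw [P.card_eq_multiplicity, hN]
  have e11 : (132 : ℕ).factorization 11 = 1 := by
    rw [show (132 : ℕ) = 11 * 12 from rfl, Nat.factorization_mul (by norm_num) (by norm_num)]
    simp [Nat.Prime.factorization_self (p := 11) (by norm_num), Nat.factorization_eq_zero_of_not_dvd]
  have e3 : (132 : ℕ).factorization 3 = 1 := by
    rw [show (132 : ℕ) = 3 * 44 from rfl, Nat.factorization_mul (by norm_num) (by norm_num)]
    simp [Nat.Prime.factorization_self (p := 3) (by norm_num), Nat.factorization_eq_zero_of_not_dvd]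
  have e2 : (132 : ℕ).factorization 2 = 2 := by
    rw [show (132 : ℕ) = 2 ^ 2 * 33 from rfl, Nat.factorization_mul (by norm_num) (by norm_num)]
    simp only [Nat.Prime.factorization_pow Nat.prime_two, Finsupp.add_apply, Finsupp.single_eq_same]
    rw [Nat.factorization_eq_zero_of_not_dvd (by norm_num)]
  obtain ⟨P⟩ : Nonempty (Sylow 11 N) := inferInstance
  obtain ⟨Q⟩ : Nonempty (Sylow 3 N) := inferInstance
  obtain ⟨T⟩ : Nonempty (Sylow 2 N) := inferInstance
  have hP := hcardP P
  have hQ := hcardP Q
  have hT := hcardP T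
  rw [e11] at hP
  rw [e3] at hQ
  rw [e2] at hT
  have mk : ∀ (K : Subgroup N) (c : ℕ), Nat.card K = c → K.Characteristic → c ≠ 1 → ¬ 12 ∣ c →
      ∃ K : Subgroup N, K.Characteristic ∧ K ≠ ⊥ ∧ ¬ 12 ∣ Nat.card K := by
    intro K c hc hK h1 h12
    refine ⟨K, hK, fun e => h1 ?_, by rw [hc]; exact h12⟩
    rw [← hc, e, Subgroup.card_bot]
  rcases eq_or_ne (Nat.card (Sylow 11 N)) 1 with k | k11
  · exact mk _ _ hP (hchar P k) (by norm_num) (by norm_num)
  rcases eq_or_ne (Nat.card (Sylow 3 N)) 1 with k | k3
  · exact mk _ _ hQ (hchar Q k) (by norm_num) (by norm_num)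
  have count : ∀ (p : ℕ) [Fact p.Prime], (∀ S : Sylow p N, Nat.card ↥(S : Subgroup N) = p) →
      Nat.card {g : N // orderOf g = p} = Nat.card (Sylow p N) * (p - 1) := by
    intro p hp hS
    exact Cfsg.Agent.H69.M11.card_orderOf_prime hS
  have d11 : Nat.card (Sylow 11 N) = 12 := by
    have h1 : Nat.card (Sylow 11 N) ∣ 12 := by
      have := P.card_dvd_index
      have e := (P : Subgroup N).card_mul_index
      rw [hP, hN] at e
      rwa [show (P : Subgroup N).index = 12 by omega] at this
    have h2 := card_sylow_modEq_one 11 N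
    have h3 := Nat.le_of_dvd (by norm_num) h1
    unfold Nat.ModEq at h2
    omega
  have d3 : 4 ≤ Nat.card (Sylow 3 N) := by
    have h2 := card_sylow_modEq_one 3 N
    have h3 : 0 < Nat.card (Sylow 3 N) := Nat.card_pos
    unfold Nat.ModEq at h2
    omega
  refine mk _ _ hT (hchar T ?_) (by norm_num) (by norm_num)
  -- the remaining elements are at most four
  have sub : ∀ S : Sylow 2 N, (S : Set N) =
      ((Finset.univ.filter fun g : N => orderOf g ≠ 11 ∧ orderOf g ≠ 3 : Finset N) : Set N) := by
    intro S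
    refine Set.eq_of_subset_of_ncard_le (fun g hg => ?_) ?_ (Set.toFinite _)
    · have hS2 : orderOf g ∣ 2 ^ 2 := by
        rw [← hT, ← (S.card_eq_multiplicity.trans T.card_eq_multiplicity.symm)]
        have := orderOf_dvd_natCard (G := (S : Subgroup N)) ⟨g, hg⟩
        rwa [Subgroup.orderOf_mk] at this
      simp only [Finset.coe_filter, Finset.mem_univ, true_and, Set.mem_ofPred_eq]
      constructor <;> intro e <;> rw [e] at hS2 <;> norm_num at hS2
    · rw [show (S : Set N).ncard = 4 by
        rw [← Nat.card_coe_set_eq]; exact (S.card_eq_multiplicity.trans T.card_eq_multiplicity.symm).trans hT,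
        Set.ncard_coe_finset]
      have h1 := count 11 fun S => by rw [hcardP S, e11, pow_one]
      have h2 := count 3 fun S => by rw [hcardP S, e3, pow_one]
      rw [Nat.card_eq_fintype_card, Fintype.card_subtype, d11] at h1
      rw [Nat.card_eq_fintype_card, Fintype.card_subtype] at h2
      have hun : (Finset.univ.filter fun g : N => orderOf g ≠ 11 ∧ orderOf g ≠ 3).card +
          ((Finset.univ.filter fun g : N => orderOf g = 11).card +
            (Finset.univ.filter fun g : N => orderOf g = 3).card) = 132 := by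
        rw [← Finset.card_union_of_disjoint (Finset.disjoint_filter.2 fun g _ a b => by omega),
          ← Finset.card_union_of_disjoint, ← hN, Nat.card_eq_fintype_card, ← Finset.card_univ]
        · congr 1
          ext g
          simp only [Finset.mem_union, Finset.mem_filter, Finset.mem_univ, true_and, iff_true]
          tauto
        · rw [Finset.disjoint_union_right]
          constructor <;> refine Finset.disjoint_filter.2 fun g _ a b => ?_
          · exact a.1 b
          · exact a.2 b
      omega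
  haveI : Subsingleton (Sylow 2 N) := ⟨fun S S' => Sylow.ext (SetLike.coe_injective ((sub S).trans (sub S').symm))⟩
  exact Nat.card_unique

/-- Degree twelve: the group is simple of order 7920. -/
theorem iso_M11 [Finite G] [FaithfulSMul G Ω] (h2 : IsMultiplyPretransitive G Ω 2)
    (hΩ : Nat.card Ω = 12) (hG : Nat.card G = 7920) {a b : Ω} (hab : a ≠ b)
    [IsSimpleGroup ↥(stabilizer G a ⊓ stabilizer G b)] : Cfsg.Spor.IsoM11 G := by
  classical
  haveI : Finite Ω := Nat.finite_of_card_ne_zero (by omega)
  have htr := H36.CyZ.isTrans h2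
  set D := stabilizer G a ⊓ stabilizer G b with hD
  have hcard : ∀ (K : Subgroup G) (x : Ω), Nat.card K =
      Nat.card (orbit K x) * Nat.card ↥(K ⊓ stabilizer G x) := by
    intro K x
    have h1 := (stabilizer K x).card_mul_index
    rw [index_stabilizer, ← Nat.card_coe_set_eq] at h1
    rw [← h1, mul_comm]
    congr 1
    exact Nat.card_congr
      { toFun := fun g => ⟨g.1.1, g.1.2, g.2⟩
        invFun := fun g => ⟨⟨g.1, g.2.1⟩, g.2.2⟩
        left_inv := fun _ => rfl
        right_inv := fun _ => rfl }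
  have hHa : Nat.card ↥(stabilizer G a) = 660 := by
    have h := hcard ⊤ a
    rw [Subgroup.card_top, hG, top_inf_eq] at h
    have ho : orbit (⊤ : Subgroup G) a = Set.univ := Set.eq_univ_of_forall fun y => by
      obtain ⟨g, hg⟩ := exists_smul_eq G a y
      exact ⟨⟨g, trivial⟩, hg⟩
    rw [ho, Nat.card_coe_set_eq, Set.ncard_univ, hΩ] at h
    omega
  have horb : orbit (stabilizer G a) b = {a}ᶜ := by
    ext z
    constructor
    · rintro ⟨g, rfl⟩ e
      exact hab (MulAction.injective (g : G) ((mem_stabilizer_iff.1 g.2).trans (Set.mem_singleton_iff.1 e).symm))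
    · intro hz
      obtain ⟨g, ga, gb⟩ := H36.CyZ.exists_map_pair h2 hab (Ne.symm hz)
      exact ⟨⟨g, ga⟩, gb⟩
  have hDc : Nat.card D = 60 := by
    have h := hcard (stabilizer G a) b
    rw [hHa, horb, Nat.card_coe_set_eq, Set.ncard_compl, Set.ncard_singleton, hΩ] at h
    rw [hD]
    omega
  have hsimple : IsSimpleGroup G := by
    haveI : Nontrivial G := (Finite.one_lt_card_iff_nontrivial (α := G)).1 (by omega)
    refine ⟨fun N hN => or_iff_not_imp_left.2 fun hne => ?_⟩
    haveI := hN
    have ht := H36.CyZ.normal_trans h2 N hne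
    have hNo : orbit N a = Set.univ := Set.eq_univ_of_forall fun y => by
      obtain ⟨n, hn, e⟩ := ht a y
      exact ⟨⟨n, hn⟩, e⟩
    have hNc : Nat.card N = 12 * Nat.card ↥(N ⊓ stabilizer G a) := by
      rw [hcard N a, hNo, Nat.card_coe_set_eq, Set.ncard_univ, hΩ]
    set Na := N ⊓ stabilizer G a with hNa
    have hNa_ne : Na ≠ ⊥ := by
      intro e
      have hfree : ∀ x : Ω, stabilizer ↥N x = ⊥ := by
        refine Perm.free_iff.2 fun n hn x hx => ?_
        obtain ⟨m, hm, rfl⟩ := ht a x
        have : m⁻¹ * n * m ∈ Na := Subgroup.mem_inf.2 ⟨mul_mem (mul_mem (inv_mem hm) hn) hm, by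
          rw [mem_stabilizer_iff, mul_smul, mul_smul, hx, inv_smul_smul]⟩
        rw [e, Subgroup.mem_bot] at this
        calc n = m * (m⁻¹ * n * m) * m⁻¹ := by group
          _ = 1 := by rw [this]; group
      haveI : Nonempty Ω := ⟨a⟩
      obtain ⟨-, p, hp, hexp⟩ := Perm.regular_normal_elementary h2 N hfree
      obtain ⟨i, hi⟩ := Perm.card_prime_pow_of_exp hp hexp
      rw [hNc, e, Subgroup.card_bot, mul_one] at hi
      have h2' : 2 ∣ p ^ i := by rw [← hi]; norm_num
      have h3' : 3 ∣ p ^ i := by rw [← hi]; norm_num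
      have := (Nat.prime_dvd_prime_iff_eq Nat.prime_two hp).1 (Nat.prime_two.dvd_of_dvd_pow h2')
      have := (Nat.prime_dvd_prime_iff_eq Nat.prime_three hp).1 (Nat.prime_three.dvd_of_dvd_pow h3')
      omega
    have hnorm : ∀ g ∈ stabilizer G a, ∀ k ∈ Na, g * k * g⁻¹ ∈ Na := fun g hg k hk =>
      Subgroup.mem_inf.2 ⟨hN.conj_mem k hk.1 g, mul_mem (mul_mem hg hk.2) (inv_mem hg)⟩
    -- transitive on the other points
    have hcov : ∀ z ≠ a, z ∈ orbit Na z := fun z _ => mem_orbit_self z
    have hmov : ∀ z ≠ a, Nat.card (orbit Na z) = Nat.card (orbit Na b) := by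
      intro z hz
      obtain ⟨g, ga, rfl⟩ := H36.CyZ.exists_map_pair h2 hab (Ne.symm hz)
      rw [Nat.card_coe_set_eq, Nat.card_coe_set_eq, ← Set.ncard_image_of_injective (orbit Na b) (MulAction.injective g)]
      congr 1
      ext w
      constructor
      · rintro ⟨k, rfl⟩
        refine ⟨g⁻¹ • (k : G) • g • b, ⟨⟨g⁻¹ * k * g, ?_⟩, ?_⟩, smul_inv_smul _ _⟩
        · simpa using hnorm g⁻¹ (inv_mem ga) k k.2
        · show (g⁻¹ * (k : G) * g) • b = _
          rw [mul_smul, mul_smul]
      · rintro ⟨_, ⟨k, rfl⟩, rfl⟩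
        refine ⟨⟨g * k * g⁻¹, hnorm g ga k k.2⟩, ?_⟩
        show (g * (k : G) * g⁻¹) • g • b = g • (k : G) • b
        rw [mul_smul, mul_smul, inv_smul_smul]
    have hdvd : Nat.card (orbit Na b) ∣ 11 := by
      haveI : Fintype Ω := Fintype.ofFinite Ω
      have hS : ({a}ᶜ : Set Ω).toFinset.card = 11 := by
        rw [← Set.ncard_eq_toFinset_card', Set.ncard_compl, Set.ncard_singleton, hΩ]
      rw [← hS, Finset.card_eq_sum_card_image (fun z => orbit Na z)]
      refine Finset.dvd_sum fun O hO => ?_
      obtain ⟨z, hz, rfl⟩ := Finset.mem_image.1 hO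
      have hza : z ≠ a := by simpa using hz
      rw [show (({a}ᶜ : Set Ω).toFinset.filter fun w => orbit Na w = orbit Na z) = (orbit Na z).toFinset from ?_,
        ← Set.ncard_eq_toFinset_card', ← Nat.card_coe_set_eq, hmov z hza]
      ext w
      simp only [Finset.mem_filter, Set.mem_toFinset, Set.mem_compl_iff, Set.mem_singleton_iff]
      rw [orbit_eq_iff]
      refine ⟨And.right, fun hw => ⟨?_, hw⟩⟩
      obtain ⟨k, rfl⟩ := hw
      exact fun e => hza (MulAction.injective (k : G) (e.trans (mem_stabilizer_iff.1 k.2.2).symm))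
    have h11 : Nat.card (orbit Na b) = 11 := by
      rcases (Nat.dvd_prime (by norm_num : Nat.Prime 11)).1 hdvd with e | e
      · exfalso
        refine hNa_ne ((Subgroup.eq_bot_iff_forall _).2 fun k hk => FaithfulSMul.eq_of_smul_eq_smul (α := Ω) fun z => ?_)
        rw [one_smul]
        by_cases hz : z = a
        · rw [hz]; exact mem_stabilizer_iff.1 hk.2
        · have := hmov z hz
          rw [e, Nat.card_eq_one_iff_unique] at this
          exact congrArg Subtype.val (this.1.elim (⟨_, ⟨k, hk⟩, rfl⟩ : orbit Na z) ⟨z, mem_orbit_self z⟩)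
      · exact e
    have hNaD : Nat.card Na = 11 * Nat.card ↥(Na ⊓ stabilizer G b) := by rw [hcard Na b, h11]
    have hle : Na ⊓ stabilizer G b ≤ D := fun k hk => ⟨hk.1.2, hk.2⟩
    haveI : ((Na ⊓ stabilizer G b).subgroupOf D).Normal := ⟨fun k hk g => by
      rw [Subgroup.mem_subgroupOf] at hk ⊢
      exact Subgroup.mem_inf.2 ⟨hnorm _ g.2.1 _ hk.1, mul_mem (mul_mem g.2.2 hk.2) (inv_mem g.2.2)⟩⟩
    rcases IsSimpleGroup.eq_bot_or_eq_top_of_normal ((Na ⊓ stabilizer G b).subgroupOf D) inferInstance with e | e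
    · exfalso
      have h0 : Nat.card ↥(Na ⊓ stabilizer G b) = 1 := by
        rw [← Nat.card_congr (Subgroup.subgroupOfEquivOfLe hle).toEquiv, e, Subgroup.card_bot]
      rw [h0, mul_one] at hNaD
      rw [hNaD] at hNc
      obtain ⟨K, hK, hKne, h12⟩ := card_normal_sylow_two hNc
      haveI := hK
      haveI : (K.map N.subtype).Normal := ConjAct.normal_of_characteristic_of_normal
      have hKne' : K.map N.subtype ≠ ⊥ := fun k =>
        hKne (Subgroup.map_injective N.subtype_injective (k.trans (Subgroup.map_bot _).symm))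
      have := H36.CyZ.card_dvd_of_trans (K.map N.subtype) a (H36.CyZ.normal_trans h2 _ hKne' a)
      rw [hΩ, Subgroup.card_map_of_injective N.subtype_injective] at this
      exact h12 this
    · refine Subgroup.eq_top_of_card_eq N ?_
      have h0 : Nat.card ↥(Na ⊓ stabilizer G b) = 60 := by
        rw [← Nat.card_congr (Subgroup.subgroupOfEquivOfLe hle).toEquiv, e, Subgroup.card_top, hDc]
      rw [h0] at hNaD
      rw [hNc, hNaD, hG]
  exact H69.M11.nonempty_mulEquiv ⟨hsimple, hG⟩ Cfsg.Agent.Golay.isM11_spor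

end Cfsg.Agent.H66.AFive
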